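import Groth.Prelude.Def_Lef
import Groth.Agent.H26.LefIdem
import Groth.Agent.S12131
import Groth.Agent.LogNCD2.TwResidue
import Groth.Agent.Lib.CurvePoint

/-!
# Inverse images of `O/I`
-/

noncomputable section

set_option autoImplicit false
set_option linter.style.haveILetI false
set_option backward.isDefEq.respectTransparency false
set_option backward.isDefEq.respectTransparency.types false

universe u

open CategoryTheory CategoryTheory.Limits AlgebraicGeometry TopologicalSpace Opposite

namespace Groth.Agent.H26.LefFEt

open Groth.Agent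

variable {W X : Scheme.{u}} (f : W ⟶ X) (I : X.IdealSheafData)

/-- The map of closed subschemes. -/
def subMap : (I.comap f).subscheme ⟶ I.subscheme := (I.comapIso f).hom ≫ pullback.snd _ _

theorem isPullback_subMap : IsPullback (subMap f I) (I.comap f).subschemeι I.subschemeι f :=
  IsPullback.of_iso (IsPullback.of_hasPullback f I.subschemeι).flip (I.comapIso f).symm (Iso.refl _) (Iso.refl _)
    (Iso.refl _) (by simp only [subMap, Iso.refl_hom, Category.comp_id, Iso.symm_hom, Iso.inv_hom_id_assoc])
    (by simp) (by simp) (by simp)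

/-- `O_X/I ⟶ f_*(O_W/IO_W)`. -/
def kMap : ClSub.quotMod I ⟶ (Scheme.Modules.pushforward f).obj (ClSub.quotMod (I.comap f)) :=
  (Scheme.Modules.pushforward I.subschemeι).map (ClSub.unitToPush (subMap f I)) ≫
    (Scheme.Modules.pushforwardComp (subMap f I) I.subschemeι).hom.app _ ≫
    (Scheme.Modules.pushforwardCongr (isPullback_subMap f I).w).hom.app _ ≫
    (Scheme.Modules.pushforwardComp (I.comap f).subschemeι f).inv.app _

/-- `f^*(O_X/I) ⟶ O_W/IO_W`. -/
def cMap : (Scheme.Modules.pullback f).obj (ClSub.quotMod I) ⟶ ClSub.quotMod (I.comap f) :=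
  ((Scheme.Modules.pullbackPushforwardAdjunction f).homEquiv _ _).symm (kMap f I)

theorem homEquiv_pullUnit {Z Y : Scheme.{u}} (g : Z ⟶ Y) :
    (Scheme.Modules.pullbackPushforwardAdjunction g).homEquiv _ _
      (SheafOfModules.pullbackObjUnitToUnit g.toRingCatSheafHom) = ClSub.unitToPush g := by
  refine (SheafOfModules.pullbackPushforwardAdjunction_homEquiv_pullbackObjUnitToUnit g.toRingCatSheafHom).trans ?_
  exact LefIdem.hom_ext_one (P := (Scheme.Modules.pushforward g).obj (Coh.structureModule Z)) _ _ rfl

instance isIso_cMap : IsIso (cMap f I) := by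
  haveI : Coh.IsQCoh (Coh.structureModule I.subscheme) := QCoh.isQCoh_structureModule
  have hbc := S12131.result I.subschemeι f (subMap f I) (I.comap f).subschemeι (isPullback_subMap f I)
    (Coh.structureModule I.subscheme)
  let u' := SheafOfModules.pullbackObjUnitToUnit (subMap f I).toRingCatSheafHom
  haveI : IsIso u' := inferInstance
  suffices h : cMap f I = ((Scheme.Modules.pullbackPushforwardAdjunction f).homEquiv _ _).symm
      ((Scheme.Modules.pushforward I.subschemeι).map
          ((Scheme.Modules.pullbackPushforwardAdjunction (subMap f I)).unit.app (Coh.structureModule I.subscheme)) ≫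
        (Scheme.Modules.pushforwardComp (subMap f I) I.subschemeι).hom.app _ ≫
        (Scheme.Modules.pushforwardCongr (isPullback_subMap f I).w).hom.app _ ≫
        (Scheme.Modules.pushforwardComp (I.comap f).subschemeι f).inv.app _) ≫
      (Scheme.Modules.pushforward (I.comap f).subschemeι).map u' by
    rw [h]
    exact @IsIso.comp_isIso _ _ _ _ _ _ _ hbc inferInstance
  rw [← Adjunction.homEquiv_naturality_right_symm, cMap]
  refine congrArg _ ?_
  have hu : (Scheme.Modules.pullbackPushforwardAdjunction (subMap f I)).unit.app (Coh.structureModule I.subscheme) ≫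
      (Scheme.Modules.pushforward (subMap f I)).map u' = ClSub.unitToPush (subMap f I) :=
    ((Scheme.Modules.pullbackPushforwardAdjunction (subMap f I)).homEquiv_unit _ _ u').symm.trans
      (homEquiv_pullUnit (subMap f I))
  rw [kMap, ← hu, Functor.map_comp]
  simp only [Category.assoc]
  refine congrArg (_ ≫ ·) ?_
  have n1 := (Scheme.Modules.pushforwardComp (subMap f I) I.subschemeι).hom.naturality u'
  have n2 := (Scheme.Modules.pushforwardCongr (isPullback_subMap f I).w).hom.naturality u'
  have n3 := (Scheme.Modules.pushforwardComp (I.comap f).subschemeι f).inv.naturality u'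
  simp only [Functor.comp_map] at n1 n3
  rw [reassoc_of% n1, reassoc_of% n2, n3]
  rfl

theorem toSub_kMap : ClSub.toSubscheme I ≫ kMap f I =
    ClSub.unitToPush f ≫ (Scheme.Modules.pushforward f).map (ClSub.toSubscheme (I.comap f)) := by
  refine LefIdem.hom_ext_one _ _ ?_
  simp [kMap, ClSub.toSubscheme, ClSub.unitToPush]
  exact ((congrArg _ (map_one (I.subschemeι.app ⊤).hom)).trans (map_one ((subMap f I).app _).hom)).trans
    ((congrArg _ (map_one (f.app ⊤).hom)).trans (map_one ((I.comap f).subschemeι.app _).hom)).symm

/-- `f^*O_X ≅ O_W`. -/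
def uIso : (Scheme.Modules.pullback f).obj (Coh.structureModule X) ≅ Coh.structureModule W :=
  haveI : IsIso (SheafOfModules.pullbackObjUnitToUnit f.toRingCatSheafHom) := inferInstance
  asIso (SheafOfModules.pullbackObjUnitToUnit f.toRingCatSheafHom)

theorem pullback_toSub_cMap : (Scheme.Modules.pullback f).map (ClSub.toSubscheme I) ≫ cMap f I =
    (uIso f).hom ≫ ClSub.toSubscheme (I.comap f) := by
  refine ((Scheme.Modules.pullbackPushforwardAdjunction f).homEquiv _ _).injective ?_
  rw [Adjunction.homEquiv_naturality_left, Adjunction.homEquiv_naturality_right, cMap, Equiv.apply_symm_apply,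
    toSub_kMap]
  exact congrArg (· ≫ _) (homEquiv_pullUnit f).symm

theorem toSub_quotMap {T : Scheme.{u}} {I J : T.IdealSheafData} (h : I ≤ J) :
    ClSub.toSubscheme I ≫ Lef.quotMap h = ClSub.toSubscheme J := by
  refine LefIdem.hom_ext_one _ _ ?_
  simp [Lef.quotMap, ClSub.toSubscheme, ClSub.unitToPush]
  exact ((congrArg _ (map_one (I.subschemeι.app ⊤).hom)).trans
    (map_one ((Scheme.IdealSheafData.inclusion h).app _).hom)).trans (map_one (J.subschemeι.app ⊤).hom).symm

theorem pullback_quotMap_cMap {I J : X.IdealSheafData} (h : I ≤ J) (h' : I.comap f ≤ J.comap f) :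
    (Scheme.Modules.pullback f).map (Lef.quotMap h) ≫ cMap f J = cMap f I ≫ Lef.quotMap h' := by
  haveI := CurvePoint.epi_toSubscheme I
  rw [← cancel_epi ((Scheme.Modules.pullback f).map (ClSub.toSubscheme I)), ← Functor.map_comp_assoc,
    toSub_quotMap, pullback_toSub_cMap, ← Category.assoc, pullback_toSub_cMap, Category.assoc, toSub_quotMap]

end Groth.Agent.H26.LefFEt
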