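import Groth.Agent.H26.LefFEt.Bij
import Groth.Agent.Pi1X.FEtFull

/-!
# Clopen subsets of finite étale covers and full faithfulness of restriction to a formal neighbourhood
-/

noncomputable section

set_option autoImplicit false
set_option linter.style.haveILetI false
set_option backward.isDefEq.respectTransparency false
set_option backward.isDefEq.respectTransparency.types false

universe u

open CategoryTheory CategoryTheory.Limits AlgebraicGeometry TopologicalSpace Opposite

namespace Groth.Agent.H26.LefFEt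

open Groth.Agent

attribute [local irreducible] Scheme.IdealSheafData.comap

variable {W X : Scheme.{u}} (𝓘 : X.IdealSheafData) (f : W ⟶ X)

theorem range_thick (n : ℕ) : Set.range (thick 𝓘 f n).subschemeι = f ⁻¹' (𝓘.support : Set X) := by
  rw [Scheme.IdealSheafData.range_subschemeι, Scheme.IdealSheafData.support_comap]
  show f ⁻¹' ((𝓘 ^ (n + 1)).support : Set X) = _
  rw [Scheme.IdealSheafData.support_pow_succ]

theorem range_fst_pullback : Set.range (pullback.fst f 𝓘.subschemeι).base = f ⁻¹' (𝓘.support : Set X) := by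
  rw [Scheme.Pullback.range_fst, Scheme.IdealSheafData.range_subschemeι]

variable {f}

/-- Clopen subsets extend from the preimage of `V(𝓘)`. -/
theorem exists_isClopen_ext (h : GB 𝓘 f) (C : Set ↥(pullback f 𝓘.subschemeι)) (hC : IsClopen C) :
    ∃ G : Set W, IsClopen G ∧ (pullback.fst f 𝓘.subschemeι).base ⁻¹' G = C := by
  let j := pullback.fst f 𝓘.subschemeι
  have hj : Topology.IsClosedEmbedding j.base := j.isClosedEmbedding
  let ι := fun n => (thick 𝓘 f n).subschemeι
  let Cn : ∀ n, Set (thick 𝓘 f n).subscheme := fun n => (ι n).base ⁻¹' (j.base '' C)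
  have hCn : ∀ n, IsClopen (Cn n) := fun n => by
    refine ⟨(hj.isClosedMap C hC.1).preimage (ι n).continuous, ?_⟩
    rw [← isClosed_compl_iff]
    have : (Cn n)ᶜ = (ι n).base ⁻¹' (j.base '' Cᶜ) := by
      ext q
      obtain ⟨p, hp⟩ : (ι n).base q ∈ Set.range j.base := by
        rw [range_fst_pullback, ← range_thick 𝓘 f n]; exact ⟨q, rfl⟩
      simp only [Cn, Set.mem_compl_iff, Set.mem_preimage, ← hp, hj.injective.mem_set_image]
    rw [this]
    exact (hj.isClosedMap _ hC.compl.1).preimage (ι n).continuous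
  choose en hen henC using fun n => LefIdem.exists_idempotent (hCn n)
  obtain ⟨t, ht⟩ := h.2 en fun n => by
    let inc := Scheme.IdealSheafData.inclusion (thick_le 𝓘 f n)
    have hinc : inc ≫ ι (n + 1) = ι n := Scheme.IdealSheafData.inclusion_subschemeι _
    refine LefIdem.ext_of_basicOpen ((hen _).map _) (hen _) ?_
    ext1
    rw [henC]
    refine Eq.trans (congrArg SetLike.coe (Scheme.preimage_basicOpen inc (en (n + 1))).symm) ?_
    show inc.base ⁻¹' ((thick 𝓘 f (n + 1)).subscheme.basicOpen (en (n + 1)) : Set _) = _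
    rw [henC, ← Set.preimage_comp]
    exact congrArg (fun k : (thick 𝓘 f n).subscheme ⟶ W => k.base ⁻¹' (j.base '' C)) hinc
  have hidem : IsIdempotentElem t := h.1 _ _ fun n => by rw [map_mul, ht n]; exact hen n
  refine ⟨_, LefIdem.isClopen_basicOpen hidem, ?_⟩
  ext p
  obtain ⟨q, hq⟩ : j.base p ∈ Set.range (ι 0).base := by
    rw [range_thick, ← range_fst_pullback]; exact ⟨p, rfl⟩
  have h1 : q ∈ ι 0 ⁻¹ᵁ W.basicOpen t ↔ q ∈ Cn 0 := by
    rw [Scheme.preimage_basicOpen, ← henC 0, ← ht 0]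
    rfl
  show j.base p ∈ W.basicOpen t ↔ p ∈ C
  rw [← hq]
  refine h1.trans ?_
  show (ι 0).base q ∈ j.base '' C ↔ p ∈ C
  rw [hq, hj.injective.mem_set_image]

/-- Nonempty clopen subsets meet `V(𝓘)`. -/
theorem inter_range_nonempty (h : GB 𝓘 (𝟙 X)) (C : Set X) (hC : IsClopen C) (hne : C.Nonempty) :
    (C ∩ Set.range 𝓘.subschemeι.base).Nonempty := by
  by_contra hno
  rw [Set.not_nonempty_iff_eq_empty, Scheme.IdealSheafData.range_subschemeι] at hno
  obtain ⟨e, he, heC⟩ := LefIdem.exists_idempotent hC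
  have h0 : e = 0 := h.1 e 0 fun n => by
    rw [map_zero]
    refine LefIdem.ext_of_basicOpen (he.map _) IsIdempotentElem.zero ?_
    refine Eq.trans ?_ (Scheme.basicOpen_zero _ _).symm
    ext1
    refine (congrArg SetLike.coe (Scheme.preimage_basicOpen (thick 𝓘 (𝟙 X) n).subschemeι e).symm).trans ?_
    refine Set.eq_empty_of_forall_notMem fun q hq => ?_
    have hr : (thick 𝓘 (𝟙 X) n).subschemeι.base q ∈ (𝟙 X : X ⟶ X) ⁻¹' (𝓘.support : Set X) :=
      range_thick 𝓘 (𝟙 X) n ▸ ⟨q, rfl⟩
    exact (hno ▸ ⟨heC ▸ hq, hr⟩ : (thick 𝓘 (𝟙 X) n).subschemeι.base q ∈ (∅ : Set X))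
  obtain ⟨x, hx⟩ := hne
  rw [← heC, h0, Scheme.basicOpen_zero] at hx
  exact hx

theorem full_faithful_of_hb [IsLocallyNoetherian X]
    (h : ∀ D : X.Modules, FlatMod.IsFinLocFree D → Lef.HomToFormalBijective 𝓘 D) :
    (FEt.restrict 𝓘.subschemeι).Full ∧ (FEt.restrict 𝓘.subschemeι).Faithful := by
  have hC := inter_range_nonempty 𝓘 (gb_of_hb (𝟙 X) 𝓘 h)
  refine ⟨Pi1X.restrict_full _ hC fun V C hVC => ?_, Pi1X.restrict_faithful _ hC⟩
  let g : V.left ⟶ X := V.hom
  haveI : IsFinite g := V.prop.1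
  haveI : Etale g := V.prop.2
  exact exists_isClopen_ext 𝓘 (gb_of_hb g 𝓘 h) C hVC

end Groth.Agent.H26.LefFEt
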