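import Groth.Prelude.Def_Lef
import Groth.Agent.H26.LefIdem
import Groth.Agent.H9Misc.LocFreeHomTensor
import Groth.Agent.KFlatLib.Scheme.ProjModule
import Groth.Agent.KFlatLib.Scheme.ProjAffineFlat
import Groth.Agent.AmpleVan.AdicBase
import Groth.Agent.QCoh.Support
import Groth.Agent.QCoh.ClosedPush
import Groth.Agent.LogNCD2.TwResidue
import Groth.Agent.S9716
import Mathlib.RingTheory.OrzechProperty

/-!
# `g_* O ⊗ Q ≅ g_* g^* Q`, naturally in `Q`, for finite étale `g`
-/

noncomputable section

set_option autoImplicit false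
set_option linter.style.haveILetI false
set_option backward.isDefEq.respectTransparency false
set_option backward.isDefEq.respectTransparency.types false

universe u

open CategoryTheory CategoryTheory.Limits AlgebraicGeometry TopologicalSpace Opposite

namespace Groth.Agent.H26.LefFEt

open Groth.Agent

variable {W X : Scheme.{u}} (f : W ⟶ X)

/-- The direct image of the structure module. -/
abbrev A : X.Modules := (Scheme.Modules.pushforward f).obj (Coh.structureModule W)

/-- Direct image of inverse image. -/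
abbrev T2 : X.Modules ⥤ X.Modules := Scheme.Modules.pullback f ⋙ Scheme.Modules.pushforward f

/-- The canonical isomorphism `O ⊗ N ≅ N`. -/
def upsilon : (DCoh.tensorBi (X := W)).obj (Coh.structureModule W) ≅ 𝟭 W.Modules :=
  ((KFlatLib.tensorBiFlipIso W).app (Coh.structureModule W)).symm ≪≫ KFlatLib.tensorStructureIso W

/-- The projection map as a natural transformation. -/
def proj : (DCoh.tensorBi (X := X)).obj (A f) ⟶
    Scheme.Modules.pullback f ⋙ (DCoh.tensorBi (X := W)).obj (Coh.structureModule W) ⋙ Scheme.Modules.pushforward f where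
  app N := KFlatLib.projMod f (Coh.structureModule W) N
  naturality _ _ q := KFlatLib.projMod_naturality_right f _ q

/-- `Q ⊗ f_* O ⟶ f_* f^* Q`. -/
def Phi : SheafHomX.ten (A f) ⟶ T2 f :=
  ((KFlatLib.tensorBiFlipIso X).app (A f)).hom ≫ proj f ≫
    Functor.whiskerLeft (Scheme.Modules.pullback f) (Functor.whiskerRight (upsilon (W := W)).hom (Scheme.Modules.pushforward f))

theorem isIso_Phi_structure : IsIso ((Phi f).app (Coh.structureModule X)) := by
  haveI : IsIso ((proj f).app (Coh.structureModule X)) := KFlatLib.isIso_projMod_structure f _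
  simp only [Phi, NatTrans.comp_app, Functor.whiskerLeft_app, Functor.whiskerRight_app]
  infer_instance

theorem isFinLocFree_A [IsFinite f] [Flat f] [LocallyOfFinitePresentation f] : FlatMod.IsFinLocFree (A f) :=
  ((S9716.result f).2 ⟨inferInstance, inferInstance, inferInstance⟩).2

theorem isIso_Phi_of_epi [IsLocallyNoetherian X] [IsFinite f] [Flat f] [LocallyOfFinitePresentation f]
    {Q : X.Modules} (hQ : Coh.IsQCoh Q) (q : Coh.structureModule X ⟶ Q) [Epi q] :
    IsIso ((Phi f).app Q) := by
  haveI := isIso_Phi_structure f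
  have hA := isFinLocFree_A f
  have hO : Coh.IsQCoh (Coh.structureModule X) := QCoh.isQCoh_structureModule
  haveI hq2 : Epi ((T2 f).map q) :=
    AmpleVan.epi_push f (QCoh.isQCoh_pullback f hO) (QCoh.isQCoh_pullback f hQ) ((Scheme.Modules.pullback f).map q)
  haveI : Epi ((SheafHomX.ten (A f)).map q ≫ (Phi f).app Q) := by
    rw [(Phi f).naturality q]
    infer_instance
  haveI hepi : Epi ((Phi f).app Q) := epi_of_epi ((SheafHomX.ten (A f)).map q) _
  obtain ⟨e₀⟩ := KFlatLib.nonempty_push_pull_iso f (QCoh.isFlat_and_isFP_iff.2 hA).1 hQ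
  let e : (SheafHomX.ten (A f)).obj Q ≅ (T2 f).obj Q := ((KFlatLib.tensorBiFlipIso X).app (A f)).app Q ≪≫ e₀
  let ψ : (T2 f).obj Q ⟶ (T2 f).obj Q := e.inv ≫ (Phi f).app Q
  haveI : Epi ψ := by dsimp only [ψ]; infer_instance
  have hT : Coh.IsQCoh ((T2 f).obj Q) := QCoh.isQCoh_pushforward f (QCoh.isQCoh_pullback f hQ)
  have hTO : Coh.IsQCoh ((T2 f).obj (Coh.structureModule X)) :=
    QCoh.isQCoh_pushforward f (QCoh.isQCoh_pullback f hO)
  haveI : IsIso (SheafOfModules.pullbackObjUnitToUnit f.toRingCatSheafHom) := inferInstance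
  let eA : A f ≅ (T2 f).obj (Coh.structureModule X) :=
    (Scheme.Modules.pushforward f).mapIso (asIso (SheafOfModules.pullbackObjUnitToUnit f.toRingCatSheafHom)).symm
  haveI hepi2 : Epi (eA.hom ≫ (T2 f).map q) := inferInstance
  have hψ : IsIso ψ := by
    refine QCoh.isIso_of_isBasis ψ X.isBasis_affineOpens fun U hU => ?_
    obtain ⟨hf, hp⟩ := QCoh.isFlat_and_isFP_iff.2 hA
    have hqA := QCoh.isQCoh_of_isFP hp
    haveI : Module.FinitePresentation Γ(X, U) Γ(A f, U) := (QCoh.isFP_iff hqA).1 hp ⟨U, hU⟩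
    let lq : Γ(A f, U) →ₗ[Γ(X, U)] Γ((T2 f).obj Q, U) :=
      { toFun := (eA.hom ≫ (T2 f).map q).app U
        map_add' := fun a b => map_add _ a b
        map_smul' := fun r a => Scheme.Modules.Hom.app_smul _ r a }
    haveI : Module.Finite Γ(X, U) Γ((T2 f).obj Q, U) :=
      Module.Finite.of_surjective lq (QCoh.app_surjective_of_epi hqA hT (eA.hom ≫ (T2 f).map q) hU)
    let l : Γ((T2 f).obj Q, U) →ₗ[Γ(X, U)] Γ((T2 f).obj Q, U) :=
      { toFun := ψ.app U
        map_add' := fun a b => map_add _ a b
        map_smul' := fun r a => Scheme.Modules.Hom.app_smul _ r a }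
    have hs : Function.Surjective l := QCoh.app_surjective_of_epi hT hT ψ hU
    exact ⟨OrzechProperty.injective_of_surjective_endomorphism l hs, hs⟩
  have h2 : (Phi f).app Q = e.hom ≫ ψ := (e.hom_inv_id_assoc _).symm
  rw [h2]
  infer_instance

end Groth.Agent.H26.LefFEt
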