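import Groth.Prelude.Def_FSch3
import Groth.Agent.H26.LefFEt.Quot
import Groth.Agent.H26.FMod.Compl
import Groth.Agent.AmpleX.QAGenerated
import Groth.Agent.H23.LocFinCoprod

/-!
# The hypotheses giving `Hom(D, O) = lim Hom(D, O/I^n)` for all finite locally free `D`
-/

noncomputable section

set_option autoImplicit false
set_option linter.style.haveILetI false
set_option backward.isDefEq.respectTransparency false
set_option backward.isDefEq.respectTransparency.types false

universe u

open CategoryTheory CategoryTheory.Limits AlgebraicGeometry TopologicalSpace Opposite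

namespace Groth.Agent.H26.LefFEt

open Groth.Agent

theorem epi_hom_ext {X : Scheme.{u}} {M N : X.Modules} {ι : Type u}
    (p : (SheafOfModules.free ι : X.Modules) ⟶ M) [Epi p] {a b : M ⟶ N}
    (h : ∀ i, (Sigma.ι (fun _ : ι => Coh.structureModule X) i ≫ p) ≫ a =
      (Sigma.ι (fun _ : ι => Coh.structureModule X) i ≫ p) ≫ b) : a = b := by
  rw [← cancel_epi p]
  refine Sigma.hom_ext (f := fun _ : ι => Coh.structureModule X) _ _ fun i => ?_
  exact (Category.assoc _ _ _).symm.trans ((h i).trans (Category.assoc _ _ _))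

/-- On a quasi-affine scheme it is enough to treat `D = O`. -/
theorem hb_of_quasiAffine {X : Scheme.{u}} [X.IsQuasiAffine] (𝓘 : X.IdealSheafData)
    (h : Lef.HomToFormalBijective 𝓘 (Coh.structureModule X)) (D : X.Modules) (hD : Coh.IsQCoh D) :
    Lef.HomToFormalBijective 𝓘 D := by
  obtain ⟨ι, p, hp⟩ := AmpleX.isGloballyGenerated_of_isQuasiAffine hD
  let O : ι → X.Modules := fun _ => Coh.structureModule X
  let P : X.Modules := ∐ O
  let p' : P ⟶ D := p
  haveI : Epi p' := hp
  refine ⟨fun φ ψ hφψ => epi_hom_ext p fun i => h.1 _ _ fun n => ?_, fun y hy => ?_⟩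
  · rw [Category.assoc (Sigma.ι (fun _ : ι => Coh.structureModule X) i ≫ p),
      Category.assoc (Sigma.ι (fun _ : ι => Coh.structureModule X) i ≫ p), hφψ n]
  choose c hc using fun i => h.2 (fun n => (Sigma.ι O i ≫ p') ≫ y n) (fun n => by rw [Category.assoc, hy n])
  let Φ : P ⟶ Coh.structureModule X := Sigma.desc c
  have hΦ : ∀ n, Φ ≫ ClSub.toSubscheme (𝓘 ^ (n + 1)) = p' ≫ y n := fun n => Sigma.hom_ext _ _ fun i => by
    rw [Sigma.ι_desc_assoc, hc i n, Category.assoc]
  have hP : Coh.IsQCoh P := H23.LocFinCoprod.isQCoh_coprod (M := O) fun _ => QCoh.isQCoh_structureModule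
  obtain ⟨κ, q, hq⟩ := AmpleX.isGloballyGenerated_of_isQuasiAffine (QCoh.isQCoh_kernel hP hD p')
  haveI : Epi q := hq
  have hK : kernel.ι p' ≫ Φ = 0 := epi_hom_ext q fun i => h.1 _ _ fun n => by
    simp only [Category.assoc, hΦ, kernel.condition_assoc, zero_comp, comp_zero]
  refine ⟨Abelian.epiDesc p' Φ hK, fun n => ?_⟩
  rw [← cancel_epi p', ← Category.assoc, Abelian.comp_epiDesc, hΦ]

section Compl

variable {A B Y : Scheme.{u}} (f : A ⟶ B) (g : B ⟶ Y) (p : A ⟶ Y) (e : f ≫ g = p)

theorem unit_pullComp_map {M : Y.Modules} {N : A.Modules} (a : (Scheme.Modules.pullback p).obj M ⟶ N) :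
    (Scheme.Modules.pullbackPushforwardAdjunction g).unit.app M ≫ (Scheme.Modules.pushforward g).map
        ((Scheme.Modules.pullbackPushforwardAdjunction f).homEquiv _ _
          ((Scheme.Modules.pullbackComp f g).hom.app M ≫ (Scheme.Modules.pullbackCongr e).hom.app M ≫ a)) ≫
      (Scheme.Modules.pushforwardComp f g).hom.app N ≫ (Scheme.Modules.pushforwardCongr e).hom.app N =
    (Scheme.Modules.pullbackPushforwardAdjunction p).unit.app M ≫ (Scheme.Modules.pushforward p).map a := by
  rw [← FMod.unit_pullComp f g p e M]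
  simp only [Category.assoc]
  refine congrArg (_ ≫ ·) ?_
  rw [← Category.assoc ((Scheme.Modules.pullbackComp f g).hom.app M), Adjunction.homEquiv_naturality_right,
    Functor.map_comp, Category.assoc]
  refine congrArg (_ ≫ ·) ?_
  have n1 := (Scheme.Modules.pushforwardComp f g).hom.naturality a
  have n2 := (Scheme.Modules.pushforwardCongr e).hom.naturality a
  simp only [Functor.comp_map] at n1
  rw [reassoc_of% n1, n2]

end Compl

variable {X : Scheme.{u}} (𝓘 : X.IdealSheafData)

/-- The adjunct of `y : D ⟶ p_* O`. -/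
def adjunct {A : Scheme.{u}} {D : X.Modules} (p : A ⟶ X)
    (y : D ⟶ (Scheme.Modules.pushforward p).obj (Coh.structureModule A)) :
    (Scheme.Modules.pullback p).obj D ⟶ (Scheme.Modules.pullback p).obj (Coh.structureModule X) :=
  ((Scheme.Modules.pullbackPushforwardAdjunction p).homEquiv D (Coh.structureModule A)).symm y ≫ (uIso p).inv

theorem homEquiv_adjunct {A : Scheme.{u}} {D : X.Modules} (p : A ⟶ X)
    (y : D ⟶ (Scheme.Modules.pushforward p).obj (Coh.structureModule A)) :
    (Scheme.Modules.pullbackPushforwardAdjunction p).homEquiv _ _ (adjunct p y ≫ (uIso p).hom) = y := by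
  rw [adjunct, Category.assoc, Iso.inv_hom_id, Category.comp_id, Equiv.apply_symm_apply]

theorem homEquiv_map_uIso {A : Scheme.{u}} {D : X.Modules} (p : A ⟶ X) (φ : D ⟶ Coh.structureModule X) :
    (Scheme.Modules.pullbackPushforwardAdjunction p).homEquiv _ _
        ((Scheme.Modules.pullback p).map φ ≫ (uIso p).hom) = φ ≫ ClSub.unitToPush p := by
  rw [Adjunction.homEquiv_naturality_left]
  exact congrArg (φ ≫ ·) (homEquiv_pullUnit p)

theorem adjunct_comm_gen {A B : Scheme.{u}} (inc : A ⟶ B) (g : B ⟶ X) (p : A ⟶ X) (e : inc ≫ g = p)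
    {D : X.Modules}
    (τ : (Scheme.Modules.pushforward g).obj (Coh.structureModule B) ⟶
      (Scheme.Modules.pushforward p).obj (Coh.structureModule A))
    [Epi (ClSub.unitToPush g)] (hτ : ClSub.unitToPush g ≫ τ = ClSub.unitToPush p)
    (aI : (Scheme.Modules.pullback g).obj D ⟶ (Scheme.Modules.pullback g).obj (Coh.structureModule X))
    (aJ : (Scheme.Modules.pullback p).obj D ⟶ (Scheme.Modules.pullback p).obj (Coh.structureModule X))
    (h : (Scheme.Modules.pullbackPushforwardAdjunction g).homEquiv _ _ (aI ≫ (uIso g).hom) ≫ τ =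
      (Scheme.Modules.pullbackPushforwardAdjunction p).homEquiv _ _ (aJ ≫ (uIso p).hom)) :
    (Scheme.Modules.pullback inc).map aI ≫
        ((Scheme.Modules.pullbackComp inc g).hom.app (Coh.structureModule X) ≫
          (Scheme.Modules.pullbackCongr e).hom.app (Coh.structureModule X)) =
      ((Scheme.Modules.pullbackComp inc g).hom.app D ≫ (Scheme.Modules.pullbackCongr e).hom.app D) ≫ aJ := by
  let w := (Scheme.Modules.pullbackComp inc g).hom.app (Coh.structureModule X) ≫
    (Scheme.Modules.pullbackCongr e).hom.app (Coh.structureModule X) ≫ (uIso p).hom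
  let hf := (Scheme.Modules.pullbackPushforwardAdjunction inc).homEquiv
    ((Scheme.Modules.pullback g).obj (Coh.structureModule X)) (Coh.structureModule A) w
  let post := (Scheme.Modules.pushforwardComp inc g).hom.app (Coh.structureModule A) ≫
    (Scheme.Modules.pushforwardCongr e).hom.app (Coh.structureModule A)
  have hq : (Scheme.Modules.pushforward g).map ((uIso g).inv ≫ hf) ≫ post = τ := by
    rw [← cancel_epi (ClSub.unitToPush g), hτ]
    have h1 : ClSub.unitToPush g ≫ (Scheme.Modules.pushforward g).map ((uIso g).inv ≫ hf) =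
        (Scheme.Modules.pullbackPushforwardAdjunction g).homEquiv _ _ hf := by
      rw [show ClSub.unitToPush g = (Scheme.Modules.pullbackPushforwardAdjunction g).homEquiv _ _
        (uIso g).hom from (homEquiv_pullUnit g).symm, ← Adjunction.homEquiv_naturality_right,
        Iso.hom_inv_id_assoc]
    rw [← Category.assoc, h1, Adjunction.homEquiv_unit, Category.assoc]
    refine (unit_pullComp_map inc g p e (uIso p).hom).trans ?_
    exact ((Scheme.Modules.pullbackPushforwardAdjunction p).homEquiv_unit _ _ (uIso p).hom).symm.trans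
      (homEquiv_pullUnit p)
  have hR : (Scheme.Modules.pullbackPushforwardAdjunction g).homEquiv _ _
      ((Scheme.Modules.pullbackPushforwardAdjunction inc).homEquiv _ _
        ((Scheme.Modules.pullbackComp inc g).hom.app D ≫ (Scheme.Modules.pullbackCongr e).hom.app D ≫
          aJ ≫ (uIso p).hom)) ≫ post =
      (Scheme.Modules.pullbackPushforwardAdjunction p).homEquiv _ _ (aJ ≫ (uIso p).hom) := by
    rw [Adjunction.homEquiv_unit, Category.assoc]
    refine (unit_pullComp_map inc g p e (aJ ≫ (uIso p).hom)).trans ?_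
    exact ((Scheme.Modules.pullbackPushforwardAdjunction p).homEquiv_unit _ _ (aJ ≫ (uIso p).hom)).symm
  have hL : (Scheme.Modules.pullbackPushforwardAdjunction g).homEquiv _ _
      ((Scheme.Modules.pullbackPushforwardAdjunction inc).homEquiv _ _
        ((Scheme.Modules.pullback inc).map aI ≫ w)) ≫ post =
      (Scheme.Modules.pullbackPushforwardAdjunction p).homEquiv _ _ (aJ ≫ (uIso p).hom) := by
    rw [Adjunction.homEquiv_naturality_left,
      show aI ≫ (Scheme.Modules.pullbackPushforwardAdjunction inc).homEquiv _ _ w =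
        (aI ≫ (uIso g).hom) ≫ (uIso g).inv ≫ hf from
          (congrArg (aI ≫ ·) ((uIso g).hom_inv_id_assoc hf).symm).trans (Category.assoc _ _ _).symm,
      Adjunction.homEquiv_naturality_right, Category.assoc, hq]
    exact h
  have h3 := ((Scheme.Modules.pullbackPushforwardAdjunction inc).homEquiv _ _).injective
    (((Scheme.Modules.pullbackPushforwardAdjunction g).homEquiv _ _).injective
      ((cancel_mono post).1 (hL.trans hR.symm)))
  rw [← cancel_mono (uIso p).hom]
  simp only [Category.assoc, w] at h3 ⊢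
  exact h3

theorem adjunct_comm {A B : Scheme.{u}} (inc : A ⟶ B) (g : B ⟶ X) (p : A ⟶ X) (e : inc ≫ g = p) {D : X.Modules}
    (θ : Scheme.Modules.pullback g ⋙ Scheme.Modules.pullback inc ≅ Scheme.Modules.pullback p)
    (hθ : θ = Scheme.Modules.pullbackComp inc g ≪≫ Scheme.Modules.pullbackCongr e)
    (τ : (Scheme.Modules.pushforward g).obj (Coh.structureModule B) ⟶
      (Scheme.Modules.pushforward p).obj (Coh.structureModule A))
    [Epi (ClSub.unitToPush g)] (hτ : ClSub.unitToPush g ≫ τ = ClSub.unitToPush p)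
    (y' : D ⟶ (Scheme.Modules.pushforward g).obj (Coh.structureModule B))
    (y : D ⟶ (Scheme.Modules.pushforward p).obj (Coh.structureModule A)) (hy : y' ≫ τ = y) :
    (Scheme.Modules.pullback inc).map (adjunct g y') ≫
        θ.hom.app (Coh.structureModule X) = θ.hom.app D ≫ adjunct p y := by
  subst hθ
  exact adjunct_comm_gen inc g p e τ hτ (adjunct g y') (adjunct p y)
    (((congrArg (· ≫ τ) (homEquiv_adjunct g y')).trans hy).trans (homEquiv_adjunct p y).symm)

theorem hb_of_complModMap (D : X.Modules)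
    (h : Function.Bijective (fun φ : D ⟶ Coh.structureModule X => FSch.complModMap 𝓘 φ)) :
    Lef.HomToFormalBijective 𝓘 D := by
  refine ⟨fun φ ψ hφψ => h.1 (FSch.ModSys.Hom.ext (funext fun n => ?_)), fun y hy => ?_⟩
  · rw [FSch.complModMap_app, FSch.complModMap_app]
    exact (cancel_mono (uIso (FSch.completionToX X 𝓘 n)).hom).1 <|
      ((Scheme.Modules.pullbackPushforwardAdjunction (FSch.completionToX X 𝓘 n)).homEquiv _ _).injective
        ((homEquiv_map_uIso _ φ).trans ((hφψ n).trans (homEquiv_map_uIso _ ψ).symm))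
  have comm : ∀ n, (Scheme.Modules.pullback ((FSch.completionAlong X 𝓘).ι n)).map (adjunct (FSch.completionToX X 𝓘 (n + 1)) (y (n + 1))) ≫
      ((FSch.complTransIso 𝓘 n).hom.app (Coh.structureModule X)) =
        (FSch.complTransIso 𝓘 n).hom.app D ≫ adjunct (FSch.completionToX X 𝓘 n) (y n) := fun n => by
    haveI : Epi (ClSub.unitToPush (FSch.completionToX X 𝓘 (n + 1))) := CurvePoint.epi_toSubscheme _
    exact adjunct_comm ((FSch.completionAlong X 𝓘).ι n) (FSch.completionToX X 𝓘 (n + 1)) (FSch.completionToX X 𝓘 n)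
      (show (FSch.completionAlong X 𝓘).ι n ≫ FSch.completionToX X 𝓘 (n + 1) = FSch.completionToX X 𝓘 n from
        Scheme.IdealSheafData.inclusion_subschemeι (FSch.pow_succ_le X 𝓘 n))
      (FSch.complTransIso 𝓘 n) rfl (Lef.quotMap (Lef.pow_succ_le 𝓘 n))
      (toSub_quotMap (Lef.pow_succ_le 𝓘 n)) (y (n + 1)) (y n) (hy n)
  obtain ⟨φ, hφ⟩ := h.2 ⟨fun n => adjunct (FSch.completionToX X 𝓘 n) (y n), comm⟩
  refine ⟨φ, fun n => ?_⟩
  have hn : (Scheme.Modules.pullback (FSch.completionToX X 𝓘 n)).map φ = adjunct (FSch.completionToX X 𝓘 n) (y n) :=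
    congrFun (congrArg FSch.ModSys.Hom.app hφ) n
  exact (homEquiv_map_uIso (FSch.completionToX X 𝓘 n) φ).symm.trans
    ((congrArg (fun t => (Scheme.Modules.pullbackPushforwardAdjunction (FSch.completionToX X 𝓘 n)).homEquiv _ _
      (t ≫ (uIso (FSch.completionToX X 𝓘 n)).hom)) hn).trans (homEquiv_adjunct _ (y n)))

end Groth.Agent.H26.LefFEt
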