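import Groth.Agent.H26.LefFEt.Phi
import Groth.Agent.H26.LefFEt.Quot

/-!
# Functions on a finite étale cover and on its formal completion
-/

noncomputable section

set_option autoImplicit false
set_option linter.style.haveILetI false
set_option backward.isDefEq.respectTransparency false
set_option backward.isDefEq.respectTransparency.types false

universe u

open CategoryTheory CategoryTheory.Limits AlgebraicGeometry TopologicalSpace Opposite

namespace Groth.Agent.H26.LefFEt

open Groth.Agent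
open Groth.Agent.H9Misc.LocFreeHomTensor (tenHomIso isFinLocFree_dual)
open Groth.Agent.SheafHomY

variable {W X : Scheme.{u}}

/-- The ideal of the `n`-th thickening of the preimage. -/
abbrev thick (𝓘 : X.IdealSheafData) (f : W ⟶ X) (n : ℕ) : W.IdealSheafData := (𝓘 ^ (n + 1)).comap f

theorem thick_le (𝓘 : X.IdealSheafData) (f : W ⟶ X) (n : ℕ) : thick 𝓘 f (n + 1) ≤ thick 𝓘 f n :=
  Scheme.IdealSheafData.comap_mono f (Lef.pow_succ_le 𝓘 n)

/-- Functions on `W` are compatible systems of functions on the thickenings of the preimage of `V(𝓘)`. -/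
def GB (𝓘 : X.IdealSheafData) (f : W ⟶ X) : Prop :=
  (∀ t t' : Γ(W, ⊤), (∀ n, (thick 𝓘 f n).subschemeι.app ⊤ t = (thick 𝓘 f n).subschemeι.app ⊤ t') → t = t') ∧
  ∀ z : ∀ n, Γ((thick 𝓘 f n).subscheme, ⊤),
    (∀ n, (Scheme.IdealSheafData.inclusion (thick_le 𝓘 f n)).app ⊤ (z (n + 1)) = z n) →
      ∃ t : Γ(W, ⊤), ∀ n, (thick 𝓘 f n).subschemeι.app ⊤ t = z n

variable (f : W ⟶ X)

/-- Homomorphisms out of the dual of `f_*O`, read upstairs. -/
def Theta [IsFinite f] [Flat f] [LocallyOfFinitePresentation f] (Q : X.Modules) (φ : dual (A f) ⟶ Q) :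
    Coh.structureModule W ⟶ (Scheme.Modules.pullback f).obj Q :=
  (uIso f).inv ≫ ((Scheme.Modules.pullbackPushforwardAdjunction f).homEquiv (Coh.structureModule X)
    ((Scheme.Modules.pullback f).obj Q)).symm
      ((SheafHomX.ev (dual (A f)) Q).symm φ ≫ (tenHomIso (isFinLocFree_A f)).inv.app Q ≫ (Phi f).app Q)

theorem Theta_naturality [IsFinite f] [Flat f] [LocallyOfFinitePresentation f] {Q Q' : X.Modules}
    (φ : dual (A f) ⟶ Q) (g : Q ⟶ Q') :
    Theta f Q' (φ ≫ g) = Theta f Q φ ≫ (Scheme.Modules.pullback f).map g := by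
  have h1 : (SheafHomX.ev (dual (A f)) Q').symm (φ ≫ g) =
      (SheafHomX.ev (dual (A f)) Q).symm φ ≫ (SheafHomX.hom (dual (A f))).map g := by
    apply (SheafHomX.ev (dual (A f)) Q').injective
    rw [AddEquiv.apply_symm_apply, SheafHomX.ev_naturality, AddEquiv.apply_symm_apply]
  rw [Theta, Theta, h1, Category.assoc, Category.assoc,
    ← Adjunction.homEquiv_naturality_right_symm]
  refine congrArg (fun t => (uIso f).inv ≫ ((Scheme.Modules.pullbackPushforwardAdjunction f).homEquiv _ _).symm t) ?_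
  rw [Category.assoc, Category.assoc]
  refine congrArg (_ ≫ ·) ?_
  rw [(tenHomIso (isFinLocFree_A f)).inv.naturality_assoc, (Phi f).naturality]
  rfl

theorem bijective_Theta [IsFinite f] [Flat f] [LocallyOfFinitePresentation f] (Q : X.Modules)
    [IsIso ((Phi f).app Q)] : Function.Bijective (Theta f Q) := by
  let i : (SheafHomX.hom (dual (A f))).obj Q ≅ (T2 f).obj Q :=
    ((tenHomIso (isFinLocFree_A f)).app Q).symm ≪≫ asIso ((Phi f).app Q)
  let e := (SheafHomX.ev (dual (A f)) Q).symm.toEquiv.trans (i.homToEquiv.trans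
    ((((Scheme.Modules.pullbackPushforwardAdjunction f).homEquiv (Coh.structureModule X)
      ((Scheme.Modules.pullback f).obj Q)).symm).trans (uIso f).homFromEquiv))
  exact e.bijective

theorem homOfTop_quotMap {T : Scheme.{u}} {I J : T.IdealSheafData} (h : I ≤ J) (a : Γ(I.subscheme, ⊤))
    (b : Γ(J.subscheme, ⊤)) (hab : (Scheme.IdealSheafData.inclusion h).app ⊤ a = b) :
    QCoh.homOfTop (P := ClSub.quotMod I) a ≫ Lef.quotMap h = QCoh.homOfTop (P := ClSub.quotMod J) b := by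
  refine LefIdem.hom_ext_one _ _ ?_
  refine Eq.trans (congrArg (fun t => (Lef.quotMap h).app ⊤ t) (LefIdem.app_homOfTop (P := ClSub.quotMod I) a)) ?_
  refine Eq.trans ?_ (hab.trans (LefIdem.app_homOfTop (P := ClSub.quotMod J) b).symm)
  simp [Lef.quotMap, ClSub.unitToPush]
  rfl

theorem gb_of_hb [IsLocallyNoetherian X] [IsFinite f] [Etale f] (𝓘 : X.IdealSheafData)
    (h : ∀ D : X.Modules, FlatMod.IsFinLocFree D → Lef.HomToFormalBijective 𝓘 D) : GB 𝓘 f := by
  obtain ⟨hinj, hsurj⟩ := h _ (isFinLocFree_dual (isFinLocFree_A f))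
  haveI := isIso_Phi_structure f
  haveI hPhi : ∀ n, IsIso ((Phi f).app (ClSub.quotMod (𝓘 ^ (n + 1)))) := fun n =>
    haveI := CurvePoint.epi_toSubscheme (𝓘 ^ (n + 1))
    isIso_Phi_of_epi f (LogNCD2.isQCoh_quotMod _) (ClSub.toSubscheme (𝓘 ^ (n + 1)))
  have hbO := bijective_Theta f (Coh.structureModule X)
  have key : ∀ (φ : dual (A f) ⟶ Coh.structureModule X) (n : ℕ),
      Theta f _ (φ ≫ ClSub.toSubscheme (𝓘 ^ (n + 1))) ≫ cMap f (𝓘 ^ (n + 1)) =
        (Theta f _ φ ≫ (uIso f).hom) ≫ ClSub.toSubscheme (thick 𝓘 f n) := fun φ n => by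
    rw [Theta_naturality, Category.assoc, Category.assoc, pullback_toSub_cMap]
  have red : ∀ (a : Coh.structureModule W ⟶ Coh.structureModule W) (n : ℕ),
      (a ≫ ClSub.toSubscheme (thick 𝓘 f n)).app ⊤ (1 : Γ(W, ⊤)) =
        (thick 𝓘 f n).subschemeι.app ⊤ (show Γ(W, ⊤) from a.app ⊤ (1 : Γ(W, ⊤))) := fun a n => rfl
  refine ⟨fun t t' htt => ?_, fun z hz => ?_⟩
  · obtain ⟨φ, hφ⟩ := hbO.2 (QCoh.homOfTop (P := Coh.structureModule W) t ≫ (uIso f).inv)
    obtain ⟨φ', hφ'⟩ := hbO.2 (QCoh.homOfTop (P := Coh.structureModule W) t' ≫ (uIso f).inv)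
    have : φ = φ' := hinj φ φ' fun n => (bijective_Theta f _).1 <| by
      rw [← cancel_mono (cMap f (𝓘 ^ (n + 1))), key, key, hφ, hφ']
      simp only [Category.assoc, Iso.inv_hom_id_assoc]
      refine LefIdem.hom_ext_one _ _ ?_
      rw [red, red, LefIdem.app_homOfTop, LefIdem.app_homOfTop]
      exact htt n
    subst this
    have h2 := (cancel_mono (uIso f).inv).1 (hφ.symm.trans hφ')
    exact (LefIdem.app_homOfTop (P := Coh.structureModule W) t).symm.trans
      ((congrArg (fun a => a.app ⊤ (1 : Γ(W, ⊤))) h2).trans (LefIdem.app_homOfTop (P := Coh.structureModule W) t'))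
  · let zz : ∀ n, Coh.structureModule W ⟶ ClSub.quotMod (thick 𝓘 f n) := fun n =>
      QCoh.homOfTop (P := ClSub.quotMod (thick 𝓘 f n)) (z n)
    choose y hy using fun n => (bijective_Theta f (ClSub.quotMod (𝓘 ^ (n + 1)))).2
      (zz n ≫ inv (cMap f (𝓘 ^ (n + 1))))
    have hzz : ∀ n, zz (n + 1) ≫ Lef.quotMap (thick_le 𝓘 f n) = zz n := fun n =>
      homOfTop_quotMap (thick_le 𝓘 f n) (z (n + 1)) (z n) (hz n)
    obtain ⟨φ, hφ⟩ := hsurj y fun n => (bijective_Theta f _).1 <| by
      rw [Theta_naturality, hy, hy, ← cancel_mono (cMap f (𝓘 ^ (n + 1))), Category.assoc, Category.assoc,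
        pullback_quotMap_cMap f _ (thick_le 𝓘 f n), IsIso.inv_hom_id_assoc, hzz, Category.assoc,
        IsIso.inv_hom_id, Category.comp_id]
    refine ⟨(Theta f _ φ ≫ (uIso f).hom).app ⊤ (1 : Γ(W, ⊤)), fun n => ?_⟩
    rw [← red, ← key, hφ, hy, Category.assoc, IsIso.inv_hom_id, Category.comp_id]
    exact LefIdem.app_homOfTop (P := ClSub.quotMod (thick 𝓘 f n)) (z n)

end Groth.Agent.H26.LefFEt
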